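/-
Automorphisms of `V C_S(V)` acting on the centralizer system of `V`: they preserve its focal subgroup, and when they have
order prime to `p` and act trivially on `C_S(V)` modulo `Z(V)`, they fix the focal subgroup pointwise (by the transfer).
-/
import Cfsg.Agent.Lib.Fusion.BisetFocal
import Cfsg.Agent.Lib.Fusion.AdmSat
import Cfsg.Agent.Lib.Fusion.Closed
import Cfsg.Agent.Lib.Fusion.Framework
import Cfsg.Agent.S5097
import Mathlib

set_option autoImplicit false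

namespace Cfsg.Agent.Lib.FocCent

open Cfsg Cfsg.FusionSystem Cfsg.Agent.Lib.Fusion

universe u

variable {Ω : Type u} [Group Ω] {S : Subgroup Ω} {F : FusionSystem S}

/-- The image of `Y` under an automorphism of `W`. -/
def img {W : Subgroup Ω} (b : MulAut W) (Y : Subgroup Ω) : Subgroup Ω :=
  (Y.subgroupOf W).map (W.subtype.comp b.toMonoidHom)

theorem img_mem {W : Subgroup Ω} (b : MulAut W) {Y : Subgroup Ω} {x : Ω} (hxW : x ∈ W) (hx : x ∈ Y) :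
    ((b ⟨x, hxW⟩ : W) : Ω) ∈ img b Y :=
  ⟨⟨x, hxW⟩, Subgroup.mem_subgroupOf.2 hx, rfl⟩

theorem img_le {W : Subgroup Ω} (b : MulAut W) (Y : Subgroup Ω) : img b Y ≤ W := by
  rintro _ ⟨x, -, rfl⟩
  exact (b x).2

theorem img_inv_mem {W : Subgroup Ω} (b : MulAut W) {Y : Subgroup Ω} {x : Ω} (hx : x ∈ img b Y) (hxW : x ∈ W) :
    (((b⁻¹ : MulAut W) ⟨x, hxW⟩ : W) : Ω) ∈ Y := by
  obtain ⟨w, hw, rfl⟩ := hx
  have e : (⟨(b w : W), hxW⟩ : W) = b w := rfl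
  have e2 : (b⁻¹ : MulAut W) ⟨(W.subtype.comp b.toMonoidHom) w, hxW⟩ = w := by
    show (b⁻¹ : MulAut W) (⟨(b w : W), hxW⟩ : W) = w
    rw [e]
    simp
  rw [e2]
  exact Subgroup.mem_subgroupOf.1 hw

/-- Transport of a map along an automorphism. -/
theorem conj_exists {W Y : Subgroup Ω} {b : MulAut W} (hW : W ≤ S) (hb : b ∈ F.autGroup W) (hY : Y ≤ W)
    {ψ : Y →* Ω} (hψ : ψ ∈ F.Hom Y) (hv : ∀ x, ψ x ∈ W) :
    ∃ χ ∈ F.Hom (img b Y), ∀ (x : Y), χ ⟨_, img_mem b (hY x.2) x.2⟩ = ((b ⟨ψ x, hv x⟩ : W) : Ω) := by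
  have hb' : W.subtype.comp b.toMonoidHom ∈ F.Hom W := (mem_autGroup_iff hW).1 hb
  have hbi : W.subtype.comp (b⁻¹ : MulAut W).toMonoidHom ∈ F.Hom W := (mem_autGroup_iff hW).1 (Subgroup.inv_mem _ hb)
  have h1 := res_mem F hbi (img_le b Y)
  have h1v : ∀ x : img b Y, ((W.subtype.comp (b⁻¹ : MulAut W).toMonoidHom).comp (Subgroup.inclusion (img_le b Y))) x ∈ Y :=
    fun x => img_inv_mem b x.2 (img_le b Y x.2)
  have h2 := F.comp_mem h1 hψ h1v
  have h2v : ∀ x, (ψ.comp (((W.subtype.comp (b⁻¹ : MulAut W).toMonoidHom).comp (Subgroup.inclusion (img_le b Y))).codRestrict Y h1v)) x ∈ W :=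
    fun x => hv _
  have h3 := F.comp_mem h2 hb' h2v
  refine ⟨_, h3, fun x => ?_⟩
  have e : ((((W.subtype.comp (b⁻¹ : MulAut W).toMonoidHom).comp (Subgroup.inclusion (img_le b Y))).codRestrict Y h1v)
      ⟨_, img_mem b (hY x.2) x.2⟩) = x := by
    apply Subtype.ext
    show (((b⁻¹ : MulAut W) (b ⟨x, hY x.2⟩) : W) : Ω) = x
    simp
  show ((b ⟨ψ (((W.subtype.comp (b⁻¹ : MulAut W).toMonoidHom).comp (Subgroup.inclusion (img_le b Y))).codRestrict Y h1v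
      ⟨_, img_mem b (hY x.2) x.2⟩), _⟩ : W) : Ω) = _
  congr 3
  exact congrArg ψ e

section Core

variable {V : Subgroup Ω}

/-- `V C_S(V)`. -/
abbrev WW (S V : Subgroup Ω) : Subgroup Ω := V ⊔ centralizerIn S V

theorem WW_le (hVS : V ≤ S) : WW S V ≤ S := sup_le hVS (centralizerIn_le V)

theorem surj_of_V [Finite V] {b : MulAut (WW S V)} (hbV : ∀ v : V, ((b ⟨v, le_sup_left (a := V) v.2⟩ : WW S V) : Ω) ∈ V) (v : V) :
    ∃ v' : V, ((b ⟨v', le_sup_left (a := V) v'.2⟩ : WW S V) : Ω) = v := by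
  let f : V → V := fun v' => ⟨_, hbV v'⟩
  have hf : Function.Injective f := by
    intro a c hac
    have h1 : (b ⟨a, le_sup_left (a := V) a.2⟩ : WW S V) = b ⟨c, le_sup_left (a := V) c.2⟩ :=
      Subtype.ext (congrArg (fun z : V => (z : Ω)) hac)
    have h2 := b.injective h1
    have h3 := congrArg (fun z : WW S V => (z : Ω)) h2
    exact Subtype.ext h3
  obtain ⟨v', hv'⟩ := (Finite.surjective_of_injective hf) v
  exact ⟨v', congrArg Subtype.val hv'⟩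

theorem val_centralizer [Finite V] (hVS : V ≤ S) {b : MulAut (WW S V)}
    (hbV : ∀ v : V, ((b ⟨v, le_sup_left (a := V) v.2⟩ : WW S V) : Ω) ∈ V) (c : WW S V) (hc : (c : Ω) ∈ centralizerIn S V) :
    ((b c : WW S V) : Ω) ∈ centralizerIn S V := by
  refine mem_centralizerIn.2 ⟨WW_le hVS (b c).2, fun v hv => ?_⟩
  obtain ⟨v', hv'⟩ := surj_of_V hbV ⟨v, hv⟩
  have h1 : ((c : Ω)) * v' = v' * c := ((mem_centralizerIn.1 hc).2 v' v'.2).symm
  have h2 : (c * ⟨v', le_sup_left (a := V) v'.2⟩ : WW S V) = ⟨v', le_sup_left (a := V) v'.2⟩ * c := Subtype.ext h1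
  have h3 := congrArg b h2
  rw [map_mul, map_mul] at h3
  have h4 := congrArg Subtype.val h3
  simp only [Subgroup.coe_mul] at h4
  rw [hv'] at h4
  exact h4.symm

/-- An automorphism of `V C_S(V)` preserving `V` preserves the focal subgroup of `C_F(V)`. -/
theorem foc_stable [Finite S] (hVS : V ≤ S) {G₁ : FusionSystem (centralizerIn S V)} (hG₁ : F.IsCentralizerSystem V G₁)
    {b : MulAut (WW S V)} (hb : b ∈ F.autGroup (WW S V))
    (hbV : ∀ v : V, ((b ⟨v, le_sup_left (a := V) v.2⟩ : WW S V) : Ω) ∈ V) {y : Ω} (hy : y ∈ G₁.focalSubgroup) :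
    ∃ hyW : y ∈ WW S V, ((b ⟨y, hyW⟩ : WW S V) : Ω) ∈ G₁.focalSubgroup := by
  haveI : Finite V := finite_of_le hVS
  induction hy using Subgroup.closure_induction with
  | mem y hy =>
    obtain ⟨P, φ, x, hφ, rfl⟩ := hy
    have hφ0 := hφ
    rw [hG₁ P] at hφ
    obtain ⟨hφF, hPle, hφv, ψ, hψ, hψ1, hψ2⟩ := hφ
    have hYW : P ⊔ V ≤ WW S V := sup_le (hPle.trans le_sup_right) le_sup_left
    have hψP : ∀ (z : Ω) (hz : z ∈ P), ψ ⟨z, Subgroup.mem_sup_left hz⟩ = φ ⟨z, hz⟩ := fun z hz => hψ1 ⟨z, hz⟩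
    have hψV : ∀ (z : Ω) (hz : z ∈ V), ψ ⟨z, Subgroup.mem_sup_right hz⟩ = z := fun z hz => hψ2 ⟨z, hz⟩
    have hvW : ∀ z, ψ z ∈ WW S V := by
      refine map_sup_mem (fun z hz => ?_) (fun z hz => ?_)
      · rw [hψP z hz]
        exact Subgroup.mem_sup_right (hφv _)
      · rw [hψV z hz]
        exact Subgroup.mem_sup_left hz
    obtain ⟨χ, hχ, hχv⟩ := conj_exists (WW_le hVS) hb hYW hψ hvW
    have hle : img b P ⊔ V ≤ img b (P ⊔ V) := by
      refine sup_le ?_ ?_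
      · rintro _ ⟨z, hz, rfl⟩
        exact img_mem b z.2 (Subgroup.mem_sup_left (Subgroup.mem_subgroupOf.1 hz))
      · intro v hv
        obtain ⟨v', hv'⟩ := surj_of_V hbV ⟨v, hv⟩
        have := img_mem (Y := P ⊔ V) b (le_sup_left (a := V) v'.2) (Subgroup.mem_sup_right v'.2)
        rwa [hv'] at this
    have hχ₁ := res_mem F hχ hle
    have hφ' := res_mem F hχ₁ (le_sup_left : img b P ≤ img b P ⊔ V)
    have hval : ∀ (z : Ω) (hzP : z ∈ P) (hzW : z ∈ WW S V) (h2 : ((b ⟨z, hzW⟩ : WW S V) : Ω) ∈ img b P ⊔ V),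
        ((χ.comp (Subgroup.inclusion hle)) ⟨_, h2⟩ : Ω) = ((b ⟨φ ⟨z, hzP⟩, Subgroup.mem_sup_right (hφv _)⟩ : WW S V) : Ω) := by
      intro z hzP hzW h2
      have h3 := hχv ⟨z, Subgroup.mem_sup_left hzP⟩
      have h4 : ψ ⟨z, Subgroup.mem_sup_left hzP⟩ = φ ⟨z, hzP⟩ := hψP z hzP
      have h5 : (⟨ψ ⟨z, Subgroup.mem_sup_left hzP⟩, hvW _⟩ : WW S V) = ⟨φ ⟨z, hzP⟩, Subgroup.mem_sup_right (hφv _)⟩ :=
        Subtype.ext h4
      rw [h5] at h3
      exact h3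
    have hmem : (χ.comp (Subgroup.inclusion hle)).comp (Subgroup.inclusion (le_sup_left : img b P ≤ img b P ⊔ V)) ∈ G₁.Hom (img b P) := by
      rw [hG₁ (img b P)]
      refine ⟨hφ', ?_, ?_, χ.comp (Subgroup.inclusion hle), hχ₁, fun _ => rfl, fun v => ?_⟩
      · rintro _ ⟨z, hz, rfl⟩
        exact val_centralizer hVS hbV z (hPle (Subgroup.mem_subgroupOf.1 hz))
      · rintro ⟨_, z, hz, rfl⟩
        have hzP : (z : Ω) ∈ P := Subgroup.mem_subgroupOf.1 hz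
        have h6 := hval z hzP z.2 (Subgroup.mem_sup_left (img_mem b z.2 hzP))
        show ((χ.comp (Subgroup.inclusion hle)) ⟨_, Subgroup.mem_sup_left (img_mem b z.2 hzP)⟩ : Ω) ∈ _
        rw [h6]
        exact val_centralizer hVS hbV _ (hφv _)
      · obtain ⟨v', hv'⟩ := surj_of_V hbV v
        have h7 := hχv ⟨v', Subgroup.mem_sup_right v'.2⟩
        have h8 : ψ ⟨v', Subgroup.mem_sup_right v'.2⟩ = v' := hψV v' v'.2
        have h9 : (⟨ψ ⟨v', Subgroup.mem_sup_right v'.2⟩, hvW _⟩ : WW S V) = ⟨v', le_sup_left (a := V) v'.2⟩ := Subtype.ext h8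
        rw [h9] at h7
        have h10 : (⟨((b ⟨v', le_sup_left (a := V) v'.2⟩ : WW S V) : Ω), img_mem (Y := P ⊔ V) b (le_sup_left (a := V) v'.2) (Subgroup.mem_sup_right v'.2)⟩ : img b (P ⊔ V))
            = Subgroup.inclusion hle (Subgroup.inclusion le_sup_right v) := Subtype.ext hv'
        have h11 : (χ.comp (Subgroup.inclusion hle)) (Subgroup.inclusion le_sup_right v) = χ (Subgroup.inclusion hle (Subgroup.inclusion le_sup_right v)) := rfl
        rw [h11, ← h10]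
        exact h7.trans hv'
    have hxW : (x : Ω) ∈ WW S V := Subgroup.mem_sup_right (hPle x.2)
    have hφxW : φ x ∈ WW S V := Subgroup.mem_sup_right (hφv x)
    refine ⟨(WW S V).mul_mem ((WW S V).inv_mem hxW) hφxW, ?_⟩
    have e : (⟨(x : Ω)⁻¹ * φ x, (WW S V).mul_mem ((WW S V).inv_mem hxW) hφxW⟩ : WW S V) = (⟨x, hxW⟩ : WW S V)⁻¹ * ⟨φ x, hφxW⟩ := rfl
    rw [e, map_mul, map_inv]
    have h12 := hval x x.2 hxW (Subgroup.mem_sup_left (img_mem b hxW x.2))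
    refine Subgroup.subset_closure ⟨img b P, _, ⟨_, img_mem b hxW x.2⟩, hmem, ?_⟩
    show ((b ⟨x, hxW⟩)⁻¹ * b ⟨φ x, hφxW⟩ : WW S V).1 = ((b ⟨x, hxW⟩ : WW S V) : Ω)⁻¹ * ((χ.comp (Subgroup.inclusion hle)) ⟨_, Subgroup.mem_sup_left (img_mem b hxW x.2)⟩ : Ω)
    rw [h12]
    rfl
  | one =>
    refine ⟨(WW S V).one_mem, ?_⟩
    have : (⟨1, (WW S V).one_mem⟩ : WW S V) = 1 := rfl
    rw [this, map_one]
    exact Subgroup.one_mem _
  | mul a c _ _ ha hc =>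
    obtain ⟨ha1, ha2⟩ := ha
    obtain ⟨hc1, hc2⟩ := hc
    refine ⟨(WW S V).mul_mem ha1 hc1, ?_⟩
    have : (⟨a * c, (WW S V).mul_mem ha1 hc1⟩ : WW S V) = ⟨a, ha1⟩ * ⟨c, hc1⟩ := rfl
    rw [this, map_mul]
    exact Subgroup.mul_mem _ ha2 hc2
  | inv a _ ha =>
    obtain ⟨ha1, ha2⟩ := ha
    refine ⟨(WW S V).inv_mem ha1, ?_⟩
    have : (⟨a⁻¹, (WW S V).inv_mem ha1⟩ : WW S V) = (⟨a, ha1⟩ : WW S V)⁻¹ := rfl
    rw [this, map_inv]
    exact Subgroup.inv_mem _ ha2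

/-- The centre of `V`. -/
def ZV (V : Subgroup Ω) : Subgroup Ω := V ⊓ Subgroup.centralizer (V : Set Ω)

theorem ZV_comm {a c : Ω} (ha : a ∈ ZV V) (hc : c ∈ ZV V) : a * c = c * a :=
  (Subgroup.mem_centralizer_iff.1 hc.2) a ha.1

/-- The centre of `V` as a commutative group. -/
instance instCommZV : CommGroup (ZV V) :=
  { Subgroup.toGroup (ZV V) with
    mul_comm := fun a c => Subtype.ext (ZV_comm a.2 c.2) }

/-- The commutator map `C_S(V) → Z(V)`. -/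
def rhoHom (b : MulAut (WW S V))
    (hbc : ∀ c : WW S V, (c : Ω) ∈ centralizerIn S V → (c : Ω)⁻¹ * ((b c : WW S V) : Ω) ∈ ZV V) :
    centralizerIn S V →* ZV V where
  toFun c := ⟨(c : Ω)⁻¹ * ((b ⟨c, Subgroup.mem_sup_right c.2⟩ : WW S V) : Ω), hbc ⟨c, Subgroup.mem_sup_right c.2⟩ c.2⟩
  map_one' := by
    apply Subtype.ext
    have : (⟨1, Subgroup.mem_sup_right (1 : centralizerIn S V).2⟩ : WW S V) = 1 := rfl
    show ((1 : Ω))⁻¹ * ((b ⟨1, Subgroup.mem_sup_right (1 : centralizerIn S V).2⟩ : WW S V) : Ω) = 1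
    rw [this, map_one]
    simp
  map_mul' a c := by
    apply Subtype.ext
    have e : (⟨((a * c : centralizerIn S V) : Ω), Subgroup.mem_sup_right (a * c).2⟩ : WW S V)
        = ⟨a, Subgroup.mem_sup_right a.2⟩ * ⟨c, Subgroup.mem_sup_right c.2⟩ := rfl
    show ((a * c : centralizerIn S V) : Ω)⁻¹ * ((b ⟨((a * c : centralizerIn S V) : Ω), Subgroup.mem_sup_right (a * c).2⟩ : WW S V) : Ω) = _
    rw [e, map_mul]
    have hz := hbc ⟨a, Subgroup.mem_sup_right a.2⟩ a.2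
    have hcomm : ((a : Ω)⁻¹ * ((b ⟨a, Subgroup.mem_sup_right a.2⟩ : WW S V) : Ω)) * (c : Ω) = (c : Ω) * ((a : Ω)⁻¹ * ((b ⟨a, Subgroup.mem_sup_right a.2⟩ : WW S V) : Ω)) :=
      (mem_centralizerIn.1 c.2).2 _ hz.1
    show ((a : Ω) * (c : Ω))⁻¹ * (((b ⟨a, Subgroup.mem_sup_right a.2⟩ : WW S V) : Ω) * ((b ⟨c, Subgroup.mem_sup_right c.2⟩ : WW S V) : Ω))
      = ((a : Ω)⁻¹ * ((b ⟨a, Subgroup.mem_sup_right a.2⟩ : WW S V) : Ω)) * ((c : Ω)⁻¹ * ((b ⟨c, Subgroup.mem_sup_right c.2⟩ : WW S V) : Ω))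
    calc ((a : Ω) * (c : Ω))⁻¹ * (((b ⟨a, Subgroup.mem_sup_right a.2⟩ : WW S V) : Ω) * ((b ⟨c, Subgroup.mem_sup_right c.2⟩ : WW S V) : Ω))
        = (c : Ω)⁻¹ * (((a : Ω)⁻¹ * ((b ⟨a, Subgroup.mem_sup_right a.2⟩ : WW S V) : Ω)) * (c : Ω)) * ((c : Ω)⁻¹ * ((b ⟨c, Subgroup.mem_sup_right c.2⟩ : WW S V) : Ω)) := by group
      _ = _ := by
        rw [hcomm]
        group

theorem eq_one_of_pow {G : Type*} [Group G] {p : ℕ} (hp : p.Prime) {a : G} {k n : ℕ} (h1 : a ^ p ^ k = 1) (h2 : a ^ n = 1) (h3 : ¬ p ∣ n) : a = 1 := by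
  have hc : Nat.Coprime (p ^ k) n := Nat.Coprime.pow_left _ ((Nat.Prime.coprime_iff_not_dvd hp).2 h3)
  have := (pow_gcd_eq_one (a := a)).2 ⟨h1, h2⟩
  rwa [hc, pow_one] at this

variable {p : ℕ} [Fact p.Prime]

/-- A `p'`-automorphism of `V C_S(V)` acting trivially on `C_S(V)` modulo `Z(V)` fixes the focal subgroup of `C_F(V)`. -/
theorem fix_foc [Finite S] (hS : IsPGroup p S) (hF : F.IsSaturated p) (hVc : F.IsFullyCentralized V)
    {G₁ : FusionSystem (centralizerIn S V)} (hG₁ : F.IsCentralizerSystem V G₁)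
    {b : MulAut (WW S V)} (hb : b ∈ F.autGroup (WW S V))
    (hbV : ∀ v : V, ((b ⟨v, le_sup_left (a := V) v.2⟩ : WW S V) : Ω) ∈ V)
    (hbc : ∀ c : WW S V, (c : Ω) ∈ centralizerIn S V → (c : Ω)⁻¹ * ((b c : WW S V) : Ω) ∈ ZV V)
    (hord : (orderOf b).Coprime p) {y : Ω} (hy : y ∈ G₁.focalSubgroup) (hyW : y ∈ WW S V) :
    ((b ⟨y, hyW⟩ : WW S V) : Ω) = y := by
  have hp := (Fact.out : p.Prime)
  have hVS := hVc.1
  have hSat : G₁.IsSaturated p := isSaturated_centralizerSystem hS hF hVc hG₁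
  have hCp : IsPGroup p (centralizerIn S V) := hS.to_le (centralizerIn_le V)
  haveI : Finite (centralizerIn S V) := finite_of_le (centralizerIn_le V)
  obtain ⟨n, hn, htr⟩ := Biset.exists_transfer.{u, u} (F := G₁) hCp hSat
  obtain ⟨Tr, hT1, hT2⟩ := htr (rhoHom b hbc)
  have hker := Biset.focal_le_of_invariant Tr hT1
  have hyR : y ∈ centralizerIn S V := focal_le (F := G₁) hy
  obtain ⟨hyW', hby⟩ := foc_stable hVS hG₁ hb hbV hy
  have huf : y⁻¹ * ((b ⟨y, hyW⟩ : WW S V) : Ω) ∈ G₁.focalSubgroup :=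
    Subgroup.mul_mem _ (Subgroup.inv_mem _ hy) hby
  have huZ : y⁻¹ * ((b ⟨y, hyW⟩ : WW S V) : Ω) ∈ ZV V := hbc ⟨y, hyW⟩ hyR
  have huR : y⁻¹ * ((b ⟨y, hyW⟩ : WW S V) : Ω) ∈ centralizerIn S V := focal_le (F := G₁) huf
  set u : Ω := y⁻¹ * ((b ⟨y, hyW⟩ : WW S V) : Ω) with hu
  have hTu : Tr ⟨u, huR⟩ = 1 := by
    obtain ⟨w, hw, hwu⟩ := Subgroup.mem_map.1 (hker huf)
    have : w = ⟨u, huR⟩ := Subtype.ext hwu
    rw [← this]
    exact hw
  have hcen : ∀ (Q : Subgroup Ω) (ψ : Q →* Ω), ψ ∈ G₁.Hom Q → ∀ (j : ℕ) (hj : (((⟨u, huR⟩ : centralizerIn S V) ^ j : centralizerIn S V) : Ω) ∈ Q),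
      ψ ⟨_, hj⟩ = (((⟨u, huR⟩ : centralizerIn S V) ^ j : centralizerIn S V) : Ω) := by
    intro Q ψ hψ j hj
    rw [hG₁ Q] at hψ
    obtain ⟨-, -, -, ψ', -, h1, h2⟩ := hψ
    have hjV : (((⟨u, huR⟩ : centralizerIn S V) ^ j : centralizerIn S V) : Ω) ∈ V := by
      have e : (((⟨u, huR⟩ : centralizerIn S V) ^ j : centralizerIn S V) : Ω) = u ^ j := rfl
      rw [e]
      exact V.pow_mem huZ.1 j
    exact (h1 ⟨_, hj⟩).symm.trans (h2 ⟨_, hjV⟩)
  have hρ := hT2 ⟨u, huR⟩ hcen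
  rw [hTu] at hρ
  have huS : u ∈ S := centralizerIn_le V huR
  have hrho : rhoHom b hbc ⟨u, huR⟩ = 1 := by
    obtain ⟨k, hk⟩ := hS ⟨((rhoHom b hbc ⟨u, huR⟩ : ZV V) : Ω), hVS (rhoHom b hbc ⟨u, huR⟩).2.1⟩
    refine eq_one_of_pow hp (k := k) (n := n) ?_ hρ.symm hn
    apply Subtype.ext
    have := congrArg (fun z : S => (z : Ω)) hk
    simpa using this
  have huW : u ∈ WW S V := Subgroup.mem_sup_right huR
  have hbu : (b ⟨u, huW⟩ : WW S V) = ⟨u, huW⟩ := by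
    apply Subtype.ext
    have h1 : ((rhoHom b hbc ⟨u, huR⟩ : ZV V) : Ω) = 1 := by
      rw [hrho]
      rfl
    have h2 : u⁻¹ * ((b ⟨u, huW⟩ : WW S V) : Ω) = 1 := h1
    exact (inv_mul_eq_one.1 h2).symm
  have hby' : (b ⟨y, hyW⟩ : WW S V) = ⟨y, hyW⟩ * ⟨u, huW⟩ := by
    apply Subtype.ext
    show ((b ⟨y, hyW⟩ : WW S V) : Ω) = y * (y⁻¹ * ((b ⟨y, hyW⟩ : WW S V) : Ω))
    group
  have hpow : ∀ j : ℕ, ((b ^ j : MulAut (WW S V)) ⟨y, hyW⟩ : WW S V) = ⟨y, hyW⟩ * ⟨u, huW⟩ ^ j := by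
    intro j
    induction j with
    | zero => simp
    | succ j ih =>
      rw [pow_succ', MulAut.mul_apply, ih, map_mul, map_pow, hbu, hby', pow_succ', mul_assoc]
  have hK := hpow (orderOf b)
  rw [pow_orderOf_eq_one, MulAut.one_apply] at hK
  have hK' : (⟨u, huW⟩ : WW S V) ^ orderOf b = 1 := by
    have := mul_left_cancel (a := (⟨y, hyW⟩ : WW S V)) (b := ⟨u, huW⟩ ^ orderOf b) (c := 1) (by rw [← hK, mul_one])
    exact this
  have hu1 : (⟨u, huW⟩ : WW S V) = 1 := by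
    obtain ⟨k, hk⟩ := hS ⟨u, huS⟩
    refine eq_one_of_pow hp (k := k) (n := orderOf b) ?_ hK' (fun hd => ?_)
    · apply Subtype.ext
      have := congrArg (fun z : S => (z : Ω)) hk
      simpa using this
    · have := Nat.dvd_gcd hd (dvd_refl p)
      rw [hord] at this
      exact hp.one_lt.ne' (Nat.dvd_one.1 this)
  rw [hby', hu1, mul_one]

/-- The lift: a `p'`-automorphism of `V` induced by an automorphism of `V C_S(V)` acting trivially mod `Z(V)` on `C_S(V)`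
extends to `V X` fixing `X`, for `X` in the focal subgroup of `C_F(V)`. -/
theorem lift_mem [Finite S] (hS : IsPGroup p S) (hF : F.IsSaturated p) (hVc : F.IsFullyCentralized V) {X : Subgroup Ω}
    (hXV : X ≤ centralizerIn S V) (hXf : ∀ G₁ : FusionSystem (centralizerIn S V), F.IsCentralizerSystem V G₁ → X ≤ G₁.focalSubgroup)
    {g : MulAut V} (hg : (orderOf g).Coprime p) {β : MulAut (WW S V)} (hβ : β ∈ F.autGroup (WW S V))
    (hβV : ∀ v : V, ((β ⟨v, le_sup_left (a := V) v.2⟩ : WW S V) : Ω) = (g v : V))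
    (hβc : ∀ c : WW S V, (c : Ω) ∈ centralizerIn S V → (c : Ω)⁻¹ * ((β c : WW S V) : Ω) ∈ ZV V) :
    ∃ ψ ∈ F.Hom (V ⊔ X), (∀ x : V, ψ (Subgroup.inclusion le_sup_left x) = (g x : V)) ∧
      ∀ x : X, ψ (Subgroup.inclusion le_sup_right x) = x := by
  have hp := (Fact.out : p.Prime)
  have hVS := hVc.1
  haveI : Finite V := finite_of_le hVS
  haveI : Finite (WW S V) := finite_of_le (WW_le hVS)
  haveI : Finite (MulAut (WW S V)) := finite_mulAut _
  haveI : Finite (MulAut V) := finite_mulAut _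
  obtain ⟨G₁, hG₁⟩ := Cfsg.Agent.S5097.result F V hVS
  have hN : orderOf β ≠ 0 := (orderOf_pos β).ne'
  obtain ⟨a, k, hk, hak⟩ := Nat.exists_eq_pow_mul_and_not_dvd hN p hp.ne_one
  have hcop : (p ^ a).Coprime (orderOf g) := Nat.Coprime.pow_left _ (Nat.Coprime.symm hg)
  obtain ⟨w, hw⟩ := exists_pow_eq_self_of_coprime hcop
  have hbVp : ∀ (m : ℕ) (v : V), (((β ^ m : MulAut (WW S V)) ⟨v, le_sup_left (a := V) v.2⟩ : WW S V) : Ω) = ((g ^ m : MulAut V) v : V) := by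
    intro m
    induction m with
    | zero => intro v; simp
    | succ m ih =>
      intro v
      rw [pow_succ', MulAut.mul_apply, pow_succ', MulAut.mul_apply]
      have e : ((β ^ m : MulAut (WW S V)) ⟨v, le_sup_left (a := V) v.2⟩ : WW S V) = ⟨((g ^ m : MulAut V) v : V), le_sup_left (a := V) ((g ^ m : MulAut V) v).2⟩ :=
        Subtype.ext (ih v)
      rw [e]
      exact hβV _
  have hβV' : ∀ v : V, ((β ⟨v, le_sup_left (a := V) v.2⟩ : WW S V) : Ω) ∈ V := fun v => by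
    rw [hβV]
    exact (g v).2
  have hbcp : ∀ (m : ℕ) (c : WW S V), (c : Ω) ∈ centralizerIn S V →
      ((β ^ m : MulAut (WW S V)) c : WW S V).1 ∈ centralizerIn S V ∧ (c : Ω)⁻¹ * (((β ^ m : MulAut (WW S V)) c : WW S V) : Ω) ∈ ZV V := by
    intro m
    induction m with
    | zero =>
      intro c hc
      rw [pow_zero, MulAut.one_apply]
      refine ⟨hc, ?_⟩
      rw [inv_mul_cancel]
      exact Subgroup.one_mem _
    | succ m ih =>
      intro c hc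
      obtain ⟨h1, h2⟩ := ih c hc
      rw [pow_succ', MulAut.mul_apply]
      refine ⟨val_centralizer hVS hβV' _ h1, ?_⟩
      have h3 := hβc _ h1
      have e : (c : Ω)⁻¹ * ((β ((β ^ m : MulAut (WW S V)) c) : WW S V) : Ω)
          = ((c : Ω)⁻¹ * (((β ^ m : MulAut (WW S V)) c : WW S V) : Ω)) * ((((β ^ m : MulAut (WW S V)) c : WW S V) : Ω)⁻¹ * ((β ((β ^ m : MulAut (WW S V)) c) : WW S V) : Ω)) := by
        group
      rw [e]
      exact Subgroup.mul_mem _ h2 h3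
  set b : MulAut (WW S V) := β ^ (p ^ a * w) with hbdef
  have hb : b ∈ F.autGroup (WW S V) := Subgroup.pow_mem _ hβ _
  have hbv : ∀ v : V, ((b ⟨v, le_sup_left (a := V) v.2⟩ : WW S V) : Ω) = (g v : V) := by
    intro v
    rw [hbdef, hbVp, pow_mul, hw]
  have hbV : ∀ v : V, ((b ⟨v, le_sup_left (a := V) v.2⟩ : WW S V) : Ω) ∈ V := fun v => by
    rw [hbv]
    exact (g v).2
  have hbord : (orderOf b).Coprime p := by
    have h1 : b ^ k = 1 := by
      rw [hbdef, ← pow_mul]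
      have e : p ^ a * w * k = orderOf β * w := by rw [hak]; ring
      rw [e, pow_mul, pow_orderOf_eq_one, one_pow]
    have h2 : orderOf b ∣ k := orderOf_dvd_of_pow_eq_one h1
    have h3 : Nat.Coprime k p := Nat.Coprime.symm ((Nat.Prime.coprime_iff_not_dvd hp).2 hk)
    exact Nat.Coprime.coprime_dvd_left h2 h3
  have hfix : ∀ x : X, ((b ⟨x, Subgroup.mem_sup_right (hXV x.2)⟩ : WW S V) : Ω) = x := fun x =>
    fix_foc hS hF hVc hG₁ hb hbV (fun c hc => (hbcp _ c hc).2) hbord (hXf G₁ hG₁ x.2) _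
  have hle : V ⊔ X ≤ WW S V := sup_le le_sup_left (hXV.trans le_sup_right)
  have hbm : (WW S V).subtype.comp b.toMonoidHom ∈ F.Hom (WW S V) := (mem_autGroup_iff (WW_le hVS)).1 hb
  exact ⟨_, res_mem F hbm hle, fun x => hbv x, fun x => hfix x⟩

end Core

end Cfsg.Agent.Lib.FocCent
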