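/-
Lifting automorphisms of `V` to `V C_S(V)`, and the automorphisms acting trivially on `V C_S(V)` modulo `V`.
-/
import Cfsg.Agent.Lib.FocCent.Basic
import Cfsg.Agent.Lib.Fusion.NormalSub
import Cfsg.Agent.Lib.Fusion.Induction
import Cfsg.Agent.Lib.Fusion.Sup
import Mathlib

set_option autoImplicit false

namespace Cfsg.Agent.Lib.FocCent

open Cfsg Cfsg.FusionSystem Cfsg.Agent.Lib.Fusion

universe u

variable {Ω : Type u} [Group Ω] {S : Subgroup Ω} {F : FusionSystem S} {V : Subgroup Ω} {p : ℕ} [Fact p.Prime]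

/-- Every automorphism of a fully centralized `V` in the system lifts to `V C_S(V)`. -/
theorem exists_lift [Finite S] (hS : IsPGroup p S) (hF : F.IsSaturated p) (hVc : F.IsFullyCentralized V) {f : MulAut V}
    (hf : f ∈ F.autGroup V) :
    ∃ φ : MulAut (WW S V), φ ∈ F.autGroup (WW S V) ∧
      ∀ v : V, ((φ ⟨v, le_sup_left (a := V) v.2⟩ : WW S V) : Ω) = (f v : V) := by
  have hVS := hVc.1
  haveI : Finite V := finite_of_le hVS
  haveI : Finite (WW S V) := finite_of_le (WW_le hVS)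
  have hr := IsSat.receptive_of_fullyCentralized hS hF hVc
  have hφ₀ : V.subtype.comp f.toMonoidHom ∈ F.Hom V := (mem_autGroup_iff hVS).1 hf
  have hrange : (V.subtype.comp f.toMonoidHom).range = V := by
    ext y
    constructor
    · rintro ⟨x, rfl⟩
      exact (f x).2
    · intro hy
      exact ⟨f.symm ⟨y, hy⟩, by simp⟩
  obtain ⟨ψ, hψ, hv⟩ := hr.2 V _ hφ₀ hrange
  have hle : WW S V ≤ extender S V (V.subtype.comp f.toMonoidHom) :=
    sup_le (le_extender hφ₀) centralizerIn_le_extender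
  have hψW := res_mem F hψ hle
  have hvV : ∀ (z : Ω) (hz : z ∈ V), (ψ.comp (Subgroup.inclusion hle)) ⟨z, Subgroup.mem_sup_left hz⟩ = (f ⟨z, hz⟩ : V) :=
    fun z hz => hv z hz _
  have hval : ∀ y, (ψ.comp (Subgroup.inclusion hle)) y ∈ WW S V := by
    refine map_sup_mem (fun z hz => ?_) (fun z hz => ?_)
    · rw [hvV z hz]
      exact Subgroup.mem_sup_left (f _).2
    · refine Subgroup.mem_sup_right (mem_centralizerIn.2 ⟨hom_val F hψW _, fun x hx => ?_⟩)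
      obtain ⟨x', rfl⟩ : ∃ x' : V, ((f x' : V) : Ω) = x := ⟨f.symm ⟨x, hx⟩, by simp⟩
      have h1 : ((⟨x', Subgroup.mem_sup_left x'.2⟩ : WW S V) * ⟨z, Subgroup.mem_sup_right hz⟩) =
          ⟨z, Subgroup.mem_sup_right hz⟩ * ⟨x', Subgroup.mem_sup_left x'.2⟩ :=
        Subtype.ext ((mem_centralizerIn.1 hz).2 x' x'.2)
      have h2 := congrArg (ψ.comp (Subgroup.inclusion hle)) h1
      rw [map_mul, map_mul, hvV x' x'.2] at h2
      exact h2
  let g : WW S V →* WW S V := (ψ.comp (Subgroup.inclusion hle)).codRestrict (WW S V) hval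
  have hginj : Function.Injective g := by
    intro a c hac
    exact hom_inj F hψW (congrArg Subtype.val hac)
  let φ : MulAut (WW S V) := MulEquiv.ofBijective g ⟨hginj, Finite.surjective_of_injective hginj⟩
  refine ⟨φ, (mem_autGroup_iff (WW_le hVS)).2 (hom_congr F hψW fun x => rfl), fun v => hvV v v.2⟩

/-- The automorphisms of `V` lifting to automorphisms of `V C_S(V)` acting trivially modulo `V`. -/
def gam0 (F : FusionSystem S) (V : Subgroup Ω) : Subgroup (MulAut V) where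
  carrier := {g | ∃ β : MulAut (WW S V), β ∈ F.autGroup (WW S V) ∧
    (∀ v : V, ((β ⟨v, le_sup_left (a := V) v.2⟩ : WW S V) : Ω) = (g v : V)) ∧
    ∀ w : WW S V, (w : Ω)⁻¹ * ((β w : WW S V) : Ω) ∈ V}
  mul_mem' := by
    rintro g₁ g₂ ⟨β₁, h₁, h₁v, h₁w⟩ ⟨β₂, h₂, h₂v, h₂w⟩
    refine ⟨β₁ * β₂, Subgroup.mul_mem _ h₁ h₂, fun v => ?_, fun w => ?_⟩
    · rw [MulAut.mul_apply, MulAut.mul_apply]
      have e : (β₂ ⟨v, le_sup_left (a := V) v.2⟩ : WW S V) = ⟨(g₂ v : V), le_sup_left (a := V) (g₂ v).2⟩ := Subtype.ext (h₂v v)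
      rw [e]
      exact h₁v _
    · rw [MulAut.mul_apply]
      have e : (w : Ω)⁻¹ * ((β₁ (β₂ w) : WW S V) : Ω) = ((w : Ω)⁻¹ * ((β₂ w : WW S V) : Ω)) * (((β₂ w : WW S V) : Ω)⁻¹ * ((β₁ (β₂ w) : WW S V) : Ω)) := by
        group
      rw [e]
      exact V.mul_mem (h₂w w) (h₁w _)
  one_mem' := by
    refine ⟨1, Subgroup.one_mem _, fun v => rfl, fun w => ?_⟩
    rw [MulAut.one_apply, inv_mul_cancel]
    exact V.one_mem
  inv_mem' := by
    rintro g ⟨β, h, hv, hw⟩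
    refine ⟨β⁻¹, Subgroup.inv_mem _ h, fun v => ?_, fun w => ?_⟩
    · have e : (β ⟨((g⁻¹ : MulAut V) v : V), le_sup_left (a := V) ((g⁻¹ : MulAut V) v).2⟩ : WW S V) = ⟨v, le_sup_left (a := V) v.2⟩ := by
        apply Subtype.ext
        rw [hv]
        simp
      have e2 : ((β⁻¹ : MulAut (WW S V)) ⟨v, le_sup_left (a := V) v.2⟩ : WW S V) = ⟨((g⁻¹ : MulAut V) v : V), le_sup_left (a := V) ((g⁻¹ : MulAut V) v).2⟩ := by
        rw [← e]
        simp
      rw [e2]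
    · have h1 := hw ((β⁻¹ : MulAut (WW S V)) w)
      have e : (β ((β⁻¹ : MulAut (WW S V)) w) : WW S V) = w := by simp
      rw [e] at h1
      have h2 := V.inv_mem h1
      have e2 : (((((β⁻¹ : MulAut (WW S V)) w : WW S V) : Ω)⁻¹) * (w : Ω))⁻¹ = (w : Ω)⁻¹ * (((β⁻¹ : MulAut (WW S V)) w : WW S V) : Ω) := by group
      rwa [e2] at h2

theorem mem_gam0 {g : MulAut V} : g ∈ gam0 F V ↔ ∃ β : MulAut (WW S V), β ∈ F.autGroup (WW S V) ∧
    (∀ v : V, ((β ⟨v, le_sup_left (a := V) v.2⟩ : WW S V) : Ω) = (g v : V)) ∧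
    ∀ w : WW S V, (w : Ω)⁻¹ * ((β w : WW S V) : Ω) ∈ V := Iff.rfl

/-- `gam0` is normalized by `Aut_F(V)`. -/
theorem gam0_normal [Finite S] (hS : IsPGroup p S) (hF : F.IsSaturated p) (hVc : F.IsFullyCentralized V) {f g : MulAut V}
    (hf : f ∈ F.autGroup V) (hg : g ∈ gam0 F V) : f * g * f⁻¹ ∈ gam0 F V := by
  obtain ⟨φ, hφ, hφv⟩ := exists_lift hS hF hVc hf
  obtain ⟨β, hβ, hβv, hβw⟩ := hg
  refine ⟨φ * β * φ⁻¹, Subgroup.mul_mem _ (Subgroup.mul_mem _ hφ hβ) (Subgroup.inv_mem _ hφ), fun v => ?_, fun w => ?_⟩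
  · have e0 : (φ ⟨((f⁻¹ : MulAut V) v : V), le_sup_left (a := V) ((f⁻¹ : MulAut V) v).2⟩ : WW S V) = ⟨v, le_sup_left (a := V) v.2⟩ := by
      apply Subtype.ext
      rw [hφv]
      simp
    have e2 : ((φ⁻¹ : MulAut (WW S V)) ⟨v, le_sup_left (a := V) v.2⟩ : WW S V) = ⟨((f⁻¹ : MulAut V) v : V), le_sup_left (a := V) ((f⁻¹ : MulAut V) v).2⟩ := by
      rw [← e0]
      simp
    rw [MulAut.mul_apply, MulAut.mul_apply, e2]
    have e3 : (β ⟨((f⁻¹ : MulAut V) v : V), le_sup_left (a := V) ((f⁻¹ : MulAut V) v).2⟩ : WW S V) = ⟨(g ((f⁻¹ : MulAut V) v) : V), le_sup_left (a := V) (g ((f⁻¹ : MulAut V) v)).2⟩ :=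
      Subtype.ext (hβv _)
    rw [e3]
    exact hφv _
  · rw [MulAut.mul_apply, MulAut.mul_apply]
    set w₁ : WW S V := (φ⁻¹ : MulAut (WW S V)) w with hw₁
    have hw : w = φ w₁ := by rw [hw₁]; simp
    have h1 := hβw w₁
    have h2 : (β w₁ : WW S V) = w₁ * ⟨(w₁ : Ω)⁻¹ * ((β w₁ : WW S V) : Ω), le_sup_left (a := V) h1⟩ := by
      apply Subtype.ext
      show ((β w₁ : WW S V) : Ω) = (w₁ : Ω) * ((w₁ : Ω)⁻¹ * ((β w₁ : WW S V) : Ω))
      group
    rw [h2, map_mul, ← hw]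
    have h3 := hφv ⟨_, h1⟩
    show (w : Ω)⁻¹ * ((w : Ω) * ((φ ⟨(w₁ : Ω)⁻¹ * ((β w₁ : WW S V) : Ω), le_sup_left (a := V) h1⟩ : WW S V) : Ω)) ∈ V
    rw [inv_mul_cancel_left]
    have h4 : ((φ ⟨(w₁ : Ω)⁻¹ * ((β w₁ : WW S V) : Ω), le_sup_left (a := V) h1⟩ : WW S V) : Ω) = (f ⟨_, h1⟩ : V) := h3
    rw [h4]
    exact (f _).2

/-- Elements of `gam0` act trivially on `C_S(V)` modulo `Z(V)`. -/
theorem gam0_central [Finite S] (hVS : V ≤ S) {β : MulAut (WW S V)}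
    (hβV : ∀ v : V, ((β ⟨v, le_sup_left (a := V) v.2⟩ : WW S V) : Ω) ∈ V)
    (hβw : ∀ w : WW S V, (w : Ω)⁻¹ * ((β w : WW S V) : Ω) ∈ V) (c : WW S V) (hc : (c : Ω) ∈ centralizerIn S V) :
    (c : Ω)⁻¹ * ((β c : WW S V) : Ω) ∈ ZV V := by
  haveI : Finite V := finite_of_le hVS
  refine ⟨hβw c, Subgroup.mem_centralizer_iff.2 fun x hx => ?_⟩
  have h1 := (mem_centralizerIn.1 hc).2 x hx
  have h2 := (mem_centralizerIn.1 (val_centralizer hVS hβV c hc)).2 x hx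
  calc x * ((c : Ω)⁻¹ * ((β c : WW S V) : Ω)) = (c : Ω)⁻¹ * (c * x * (c : Ω)⁻¹) * ((β c : WW S V) : Ω) := by group
    _ = (c : Ω)⁻¹ * (x * ((β c : WW S V) : Ω)) := by
      rw [← h1]
      group
    _ = ((c : Ω)⁻¹ * ((β c : WW S V) : Ω)) * x := by
      rw [h2]
      group

/-- Conjugation by an element of a normal `T` with `C_T(V) ≤ V` lies in `gam0`. -/
theorem autInduced_le_gam0 [Finite S] {T : Subgroup Ω} (hVT : V ≤ T) (hTS : T ≤ S)
    (hTn : ∀ g ∈ S, ∀ t ∈ T, g * t * g⁻¹ ∈ T) (hcen : centralizerIn T V ≤ V) {g : MulAut V}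
    (hg : g ∈ autInducedBy T V) : g ∈ gam0 F V := by
  have hVS := hVT.trans hTS
  haveI : Finite V := finite_of_le hVS
  haveI : Finite (WW S V) := finite_of_le (WW_le hVS)
  obtain ⟨s, hs, hsv⟩ := mem_autInducedBy_iff.1 hg
  have hsS := hTS hs
  have hsV : s ∈ Subgroup.normalizer (V : Set Ω) := mem_normalizer_of_conj hsv
  have hcC : ∀ c ∈ centralizerIn S V, s * c * s⁻¹ ∈ centralizerIn S V := by
    intro c hc
    refine mem_centralizerIn.2 ⟨S.mul_mem (S.mul_mem hsS (centralizerIn_le V hc)) (S.inv_mem hsS), fun x hx => ?_⟩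
    have hx' : s⁻¹ * x * s ∈ V := by
      have := (Subgroup.mem_normalizer_iff.1 (Subgroup.inv_mem _ hsV) x).1 hx
      simpa using this
    have h1 := (mem_centralizerIn.1 hc).2 _ hx'
    calc x * (s * c * s⁻¹) = s * ((s⁻¹ * x * s) * c) * s⁻¹ := by group
      _ = s * (c * (s⁻¹ * x * s)) * s⁻¹ := by rw [h1]
      _ = (s * c * s⁻¹) * x := by group
  have hsW : ∀ w ∈ WW S V, s * w * s⁻¹ ∈ WW S V := by
    have hle : WW S V ≤ (WW S V).comap (MulAut.conj s).toMonoidHom := by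
      refine sup_le (fun v hv => ?_) (fun c hc => ?_)
      · exact Subgroup.mem_sup_left ((Subgroup.mem_normalizer_iff.1 hsV v).1 hv)
      · exact Subgroup.mem_sup_right (hcC c hc)
    exact fun w hw => hle hw
  have hsN : s ∈ Subgroup.normalizer ((WW S V : Subgroup Ω) : Set Ω) := mem_normalizer_of_forall hsW
  refine ⟨conjAut (WW S V) s hsN, ?_, fun v => ?_, fun w => ?_⟩
  · exact autInducedBy_le_autGroup F (WW_le hVS) (conjAut_mem hsS hsN)
  · rw [hsv]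
    rfl
  · show (w : Ω)⁻¹ * (s * (w : Ω) * s⁻¹) ∈ V
    have hwS : (w : Ω) ∈ S := WW_le hVS w.2
    have h1 : (w : Ω)⁻¹ * (s * (w : Ω) * s⁻¹) ∈ T := by
      have h2 := hTn _ (S.inv_mem hwS) s hs
      have e : (w : Ω)⁻¹ * (s * (w : Ω) * s⁻¹) = ((w : Ω)⁻¹ * s * ((w : Ω)⁻¹)⁻¹) * s⁻¹ := by group
      rw [e]
      exact T.mul_mem h2 (T.inv_mem hs)
    have h3 : (w : Ω)⁻¹ * (s * (w : Ω) * s⁻¹) ∈ WW S V :=
      (WW S V).mul_mem ((WW S V).inv_mem w.2) (hsW _ w.2)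
    have hCN : centralizerIn S V ≤ Subgroup.normalizer (V : Set Ω) := fun c hc =>
      (mem_normalizerIn.1 (centralizerIn_le_normalizerIn hc)).2
    obtain ⟨q, hq, c, hc, e⟩ := exists_mul_of_mem_sup hCN h3
    have hcT : c ∈ T := by
      have : c = q⁻¹ * ((w : Ω)⁻¹ * (s * (w : Ω) * s⁻¹)) := by rw [e]; group
      rw [this]
      exact T.mul_mem (T.inv_mem (hVT hq)) h1
    have hcV : c ∈ V := hcen (mem_centralizerIn.2 ⟨hcT, (mem_centralizerIn.1 hc).2⟩)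
    rw [e]
    exact V.mul_mem hq hcV

end Cfsg.Agent.Lib.FocCent
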