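/-
For `E ⊴ F` on `T`: the focal subgroup of `C_F(T)` is centralized by `E`.
-/
import Cfsg.Agent.Lib.FocCent.Lift
import Cfsg.Agent.Lib.Fusion.Closed
import Cfsg.Agent.Lib.Techniques.Complement
import Mathlib

set_option autoImplicit false

namespace Cfsg.Agent.Lib.FocCent

open Cfsg Cfsg.FusionSystem Cfsg.Agent.Lib.Fusion

universe u

variable {Ω : Type u} [Group Ω] {S : Subgroup Ω} {F : FusionSystem S} {V T : Subgroup Ω} {p : ℕ} [Fact p.Prime]

theorem T_normal (hsc : F.StronglyClosed T) : ∀ g ∈ S, ∀ t ∈ T, g * t * g⁻¹ ∈ T := fun g hg t ht =>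
  hsc.2 T le_rfl (conjHom T g) (F.conj_mem hsc.1 hg) ⟨t, ht⟩

theorem normalizerIn_eq_of_closed (hsc : F.StronglyClosed T) [Finite T] : normalizerIn S T = S := by
  refine inf_eq_left.2 fun g hg => mem_normalizer_of_forall fun t ht => T_normal hsc g hg t ht

theorem le_cent_foc [Finite S] {D : FusionSystem (centralizerIn S T)} (hTS : T ≤ S) : T ≤ centralizerIn S D.focalSubgroup := by
  haveI : Finite (centralizerIn S T) := finite_of_le (centralizerIn_le T)
  intro t ht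
  refine mem_centralizerIn.2 ⟨hTS ht, fun x hx => ?_⟩
  exact ((mem_centralizerIn.1 (focal_le (F := D) hx)).2 t ht).symm

theorem cent_mono (hVT : V ≤ T) : centralizerIn S T ≤ centralizerIn S V := fun x hx =>
  mem_centralizerIn.2 ⟨(mem_centralizerIn.1 hx).1, fun v hv => (mem_centralizerIn.1 hx).2 v (hVT hv)⟩

theorem foc_le_foc (hVT : V ≤ T) {D : FusionSystem (centralizerIn S T)} (hD : F.IsCentralizerSystem T D)
    {G₁ : FusionSystem (centralizerIn S V)} (hG₁ : F.IsCentralizerSystem V G₁) : D.focalSubgroup ≤ G₁.focalSubgroup := by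
  rw [focalSubgroup, Subgroup.closure_le]
  rintro _ ⟨P, φ, x, hφ, rfl⟩
  refine Subgroup.subset_closure ⟨P, φ, x, ?_, rfl⟩
  rw [hD P] at hφ
  obtain ⟨hφF, hPle, hφv, ψ, hψ, h1, h2⟩ := hφ
  rw [hG₁ P]
  have hle : P ⊔ V ≤ P ⊔ T := sup_le_sup_left hVT P
  exact ⟨hφF, hPle.trans (cent_mono hVT), fun y => cent_mono hVT (hφv y), ψ.comp (Subgroup.inclusion hle), res_mem F hψ hle,
    fun y => h1 y, fun y => h2 ⟨y, hVT y.2⟩⟩

section

variable {D : FusionSystem (centralizerIn S T)} {G₂ : FusionSystem (centralizerIn S D.focalSubgroup)}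

theorem mem_G₂ [Finite S] (hTS : T ≤ S) (hG₂ : F.IsCentralizerSystem D.focalSubgroup G₂) (hVT : V ≤ T) {g : MulAut V}
    {ψ : ↥(V ⊔ D.focalSubgroup) →* Ω} (hψ : ψ ∈ F.Hom (V ⊔ D.focalSubgroup))
    (h1 : ∀ x : V, ψ (Subgroup.inclusion le_sup_left x) = (g x : V))
    (h2 : ∀ x : D.focalSubgroup, ψ (Subgroup.inclusion le_sup_right x) = x) :
    V.subtype.comp g.toMonoidHom ∈ G₂.Hom V := by
  rw [hG₂ V]
  refine ⟨hom_congr F (res_mem F hψ (le_sup_left : V ≤ V ⊔ D.focalSubgroup)) (fun x => (h1 x).symm), hVT.trans (le_cent_foc hTS),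
    fun x => le_cent_foc hTS (hVT (g x).2), ψ, hψ, h1, h2⟩

/-- The `G₂`-automizer of `V`. -/
theorem mem_autG₂ [Finite S] (hTS : T ≤ S) (hVT : V ≤ T) {g : MulAut V} :
    g ∈ G₂.autGroup V ↔ V.subtype.comp g.toMonoidHom ∈ G₂.Hom V :=
  mem_autGroup_iff (hVT.trans (le_cent_foc hTS))

/-- Conjugations by elements of `T`. -/
theorem autInduced_le_G₂ [Finite S] (hTS : T ≤ S) (hVT : V ≤ T) : autInducedBy T V ≤ G₂.autGroup V :=
  (autInducedBy_mono (le_cent_foc hTS)).trans (autInducedBy_le_autGroup G₂ (hVT.trans (le_cent_foc hTS)))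

end

/-! ### The level of `T` -/

section TLevel

variable [Finite S] {E : FusionSystem T} {D : FusionSystem (centralizerIn S T)} {G₂ : FusionSystem (centralizerIn S D.focalSubgroup)}

theorem T_fullyCentralized (hS : IsPGroup p S) (hF : F.IsSaturated p) (hsc : F.StronglyClosed T) : F.IsFullyCentralized T := by
  haveI : Finite T := finite_of_le hsc.1
  exact IsSat.fullyCentralized_of_fullyNormalized hS hF
    (isFullyNormalized_of_normalizerIn_eq hsc.1 (normalizerIn_eq_of_closed hsc))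

theorem T_level (hS : IsPGroup p S) (hF : F.IsSaturated p) (hE : E.IsNormalIn F p) (hD : F.IsCentralizerSystem T D)
    (hG₂ : F.IsCentralizerSystem D.focalSubgroup G₂) {α : MulAut T} (hα : α ∈ E.autGroup T) : α ∈ G₂.autGroup T := by
  obtain ⟨⟨hEs, -, hsub, hsc, -, -⟩, hN1⟩ := hE
  have hTS := hsc.1
  haveI : Finite T := finite_of_le hTS
  have hTp : IsPGroup p T := hS.to_le hTS
  have hTfn : E.IsFullyNormalized T := isFullyNormalized_of_normalizerIn_eq le_rfl
    (inf_eq_left.2 Subgroup.le_normalizer)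
  have hc := T_fullyCentralized hS hF hsc
  haveI : Finite (centralizerIn S T) := finite_of_le (centralizerIn_le T)
  have hres : ∀ β : E.autGroup T, β ∈ pResidual p (E.autGroup T) → (β : MulAut T) ∈ G₂.autGroup T := by
    intro β hβ
    induction hβ using Subgroup.closure_induction with
    | mem g hg =>
      have hg' : (orderOf (g : MulAut T)).Coprime p := by
        rw [Subgroup.orderOf_coe]
        exact hg
      obtain ⟨b, hb, hb1, hb2⟩ := hN1 g g.2
      obtain ⟨ψ, hψ, h1, h2⟩ := lift_mem hS hF hc (X := D.focalSubgroup) (focal_le (F := D))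
        (fun G₁ hG₁ => foc_le_foc le_rfl hD hG₁) hg' hb hb1 hb2
      exact (mem_autG₂ hTS le_rfl).2 (mem_G₂ hTS hG₂ le_rfl hψ h1 h2)
    | one => exact Subgroup.one_mem _
    | mul x y _ _ hx hy => exact Subgroup.mul_mem _ hx hy
    | inv x _ hx => exact Subgroup.inv_mem _ hx
  obtain ⟨s, hs, β, hβ, hv⟩ := exists_conj_mul_residual hTp hEs hTfn ⟨α, hα⟩
  have hsT : s ∈ T := (mem_normalizerIn.1 hs).1
  have hsN : s ∈ Subgroup.normalizer ((T : Subgroup Ω) : Set Ω) := Subgroup.le_normalizer hsT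
  have e : α = conjAut T s hsN * (β : MulAut T) := by
    ext x
    exact hv x
  rw [e]
  exact Subgroup.mul_mem _ (autInduced_le_G₂ hTS le_rfl (conjAut_mem hsT hsN)) (hres β hβ)

end TLevel

/-! ### Levels below `T` -/

section VLevel

variable [Finite S] {E : FusionSystem T} {D : FusionSystem (centralizerIn S T)} {G₂ : FusionSystem (centralizerIn S D.focalSubgroup)}

/-- Fully normalized in `F` implies fully normalized in `E`. -/
theorem fn_of_fn (hS : IsPGroup p S) (hF : F.IsSaturated p) (hsub : E.IsSubsystemOf F) (hsc : F.StronglyClosed T) (hVT : V ≤ T)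
    (hV : F.IsFullyNormalized V) : E.IsFullyNormalized V := by
  refine ⟨hVT, fun Q hQ => ?_⟩
  obtain ⟨e, he⟩ := isConj_iff.1 hQ
  have he' : IsIso F e.symm := hsub _ (IsIso.symm he)
  obtain ⟨e', -, ψ, hψ, hψv, -⟩ := IsSat.extend_to_normalizer hS hF hV he'
  have hle : normalizerIn T Q ≤ normalizerIn S Q := inf_le_inf_right _ hsc.1
  have hres := res_mem F hψ hle
  have hmem : ∀ x : normalizerIn T Q, ψ ⟨x, hle x.2⟩ ∈ normalizerIn T V := by
    intro x
    refine ⟨?_, (mem_normalizerIn.1 (hψv _)).2⟩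
    exact hsc.2 _ inf_le_left _ hres x
  have hinj : Function.Injective (fun x : normalizerIn T Q => (⟨_, hmem x⟩ : normalizerIn T V)) := by
    intro a c hac
    have h1 := hom_inj F hψ (congrArg Subtype.val hac)
    exact Subtype.ext (congrArg (fun z : normalizerIn S Q => (z : Ω)) h1)
  haveI : Finite T := finite_of_le hsc.1
  haveI : Finite (normalizerIn T V) := finite_of_le (normalizerIn_le V)
  exact Nat.card_le_card_of_injective _ hinj

theorem range_comp_aut (a : MulAut V) : (V.subtype.comp a.toMonoidHom).range = V := by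
  ext y
  constructor
  · rintro ⟨x, rfl⟩
    exact (a x).2
  · intro hy
    exact ⟨a.symm ⟨y, hy⟩, by simp⟩

/-- An automorphism with a strictly larger extender comes from a larger source. -/
theorem ext_step (hTS : T ≤ S) (hVT : V ≤ T) (hrec : E.IsReceptive V)
    (IH : ∀ Q, Q ≤ T → Nat.card V < Nat.card Q → ∀ φ ∈ E.Hom Q, φ ∈ G₂.Hom Q) {a : MulAut V} (ha : a ∈ E.autGroup V)
    (hlt : Nat.card V < Nat.card (extender T V (V.subtype.comp a.toMonoidHom))) : a ∈ G₂.autGroup V := by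
  have hφ : V.subtype.comp a.toMonoidHom ∈ E.Hom V := (mem_autGroup_iff hVT).1 ha
  obtain ⟨ψ, hψ, hv⟩ := hrec.2 V _ hφ (range_comp_aut a)
  have hψG := IH _ (hom_le E hψ) hlt ψ hψ
  refine (mem_autG₂ hTS hVT).2 (hom_of_res G₂ hψG (le_extender hφ) fun x hx => ?_)
  exact (hv x hx _).symm

theorem V_level (hS : IsPGroup p S) (hF : F.IsSaturated p) (hE : E.IsNormalIn F p) (hD : F.IsCentralizerSystem T D)
    (hG₂ : F.IsCentralizerSystem D.focalSubgroup G₂) (hV : F.IsFullyNormalized V) (hVT : V < T)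
    (IH : ∀ Q, Q ≤ T → Nat.card V < Nat.card Q → ∀ φ ∈ E.Hom Q, φ ∈ G₂.Hom Q) {a : MulAut V} (ha : a ∈ E.autGroup V) :
    a ∈ G₂.autGroup V := by
  obtain ⟨⟨hEs, -, hsub, hsc, -, -⟩, -⟩ := hE
  have hTS := hsc.1
  have hVT' := hVT.le
  have hVS := hVT'.trans hTS
  haveI : Finite T := finite_of_le hTS
  haveI : Finite V := finite_of_le hVS
  haveI : Finite (MulAut V) := finite_mulAut _
  haveI : Finite (centralizerIn S T) := finite_of_le (centralizerIn_le T)
  have hTp : IsPGroup p T := hS.to_le hTS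
  have hVE := fn_of_fn hS hF hsub hsc hVT' hV
  have hrec := IsSat.receptive_of_fullyNormalized hTp hEs hVE
  obtain ⟨-, U, hU⟩ := IsSat.fullyAutomized_of_fullyNormalized hTp hEs hVE
  have hsyl : IsSylowIn p (autInducedBy T V) (E.autGroup V) := ⟨U, hU⟩
  have hPA : autInducedBy T V ≤ E.autGroup V := autInducedBy_le_autGroup E hVT'
  by_cases hcen : centralizerIn T V ≤ V
  swap
  · refine ext_step hTS hVT' hrec IH ha ?_
    have hφ : V.subtype.comp a.toMonoidHom ∈ E.Hom V := (mem_autGroup_iff hVT').1 ha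
    have h1 := le_extender hφ
    have hne : V ≠ extender T V (V.subtype.comp a.toMonoidHom) := by
      intro h
      apply hcen
      have h2 : centralizerIn T V ≤ extender T V (V.subtype.comp a.toMonoidHom) := centralizerIn_le_extender
      exact h2.trans h.symm.le
    exact card_lt_of_lt (S := T) (extender_le_normalizerIn.trans (normalizerIn_le V)) (lt_of_le_of_ne h1 hne)
  have hc : F.IsFullyCentralized V := IsSat.fullyCentralized_of_fullyNormalized hS hF hV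
  have hgam : ∀ g : MulAut V, g ∈ gam0 F V → (orderOf g).Coprime p → g ∈ G₂.autGroup V := by
    intro g hg hg'
    obtain ⟨β, hβ, hβv, hβw⟩ := hg
    have hβV : ∀ v : V, ((β ⟨v, le_sup_left (a := V) v.2⟩ : WW S V) : Ω) ∈ V := fun v => by
      rw [hβv]
      exact (g v).2
    obtain ⟨ψ, hψ, h1, h2⟩ := lift_mem hS hF hc (X := D.focalSubgroup) ((focal_le (F := D)).trans (cent_mono hVT'))
      (fun G₁ hG₁ => foc_le_foc hVT' hD hG₁) hg' hβ hβv (gam0_central hVS hβV hβw)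
    exact (mem_autG₂ hTS hVT').2 (mem_G₂ hTS hG₂ hVT' hψ h1 h2)
  set Y : Subgroup (MulAut V) := gam0 F V ⊓ E.autGroup V with hY
  have hPY : autInducedBy T V ≤ Y :=
    le_inf (fun g hg => autInduced_le_gam0 hVT' hTS (T_normal hsc) hcen hg) hPA
  have hYA : Y ≤ E.autGroup V := inf_le_right
  have hsY : IsSylowIn p (autInducedBy T V) Y := IsSylowIn.of_le hsyl hPA hPY hYA
  have hPp : IsPGroup p (autInducedBy T V) := IsSylowIn.isPGroup hsyl hPA
  -- Every element of `Y` lies in the automizer.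
  have hYG : ∀ b ∈ Y, b ∈ G₂.autGroup V := by
    intro b hb
    obtain ⟨R, hR⟩ := hsY
    obtain ⟨t, ht, u, hu, e⟩ := Lib.Techniques.exists_mul_pResidual R ⟨b, hb⟩
    have hb' : b = (t : MulAut V) * (u : MulAut V) := congrArg Subtype.val e
    rw [hb']
    have ht' : (t : MulAut V) ∈ autInducedBy T V := by
      rw [hR] at ht
      exact Subgroup.mem_subgroupOf.1 ht
    have hu' : (u : MulAut V) ∈ G₂.autGroup V := by
      clear hb' e
      induction hu using Subgroup.closure_induction with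
      | mem g hg =>
        refine hgam g g.2.1 ?_
        rw [Subgroup.orderOf_coe]
        exact hg
      | one => exact Subgroup.one_mem _
      | mul x y _ _ hx hy => exact Subgroup.mul_mem _ hx hy
      | inv x _ hx => exact Subgroup.inv_mem _ hx
    exact Subgroup.mul_mem _ (autInduced_le_G₂ hTS hVT' ht') hu'
  -- Frattini.
  have hWp : IsPGroup p (conjSub a (autInducedBy T V)) := by
    have : conjSub a (autInducedBy T V) = (autInducedBy T V).map (MulAut.conj a).toMonoidHom := rfl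
    rw [this]
    exact hPp.map _
  have hWY : conjSub a (autInducedBy T V) ≤ Y := by
    rintro _ ⟨w, hw, rfl⟩
    have hwY := hPY hw
    have haF : a ∈ F.autGroup V := by
      have : E.autGroup V ≤ F.autGroup V := by
        intro z hz
        exact (mem_autGroup_iff hVS).2 (hsub _ ((mem_autGroup_iff hVT').1 hz))
      exact this ha
    refine ⟨gam0_normal hS hF hc haF hwY.1, ?_⟩
    exact Subgroup.mul_mem _ (Subgroup.mul_mem _ ha hwY.2) (Subgroup.inv_mem _ ha)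
  obtain ⟨x, hx, hxv⟩ := IsSylowIn.exists_conj_le hsY hWp hWY
  set ν : MulAut V := x * a with hν
  have hνA : ν ∈ E.autGroup V := Subgroup.mul_mem _ (hYA hx) ha
  have hνP : ∀ t ∈ autInducedBy T V, ν * t * ν⁻¹ ∈ autInducedBy T V := by
    intro t ht
    have := hxv _ (conj_mem_conjSub (g := a) ht)
    have e : ν * t * ν⁻¹ = x * (a * t * a⁻¹) * x⁻¹ := by rw [hν]; group
    rw [e]
    exact this
  have hνG : ν ∈ G₂.autGroup V := by
    refine ext_step hTS hVT' hrec IH hνA ?_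
    have hφ : V.subtype.comp ν.toMonoidHom ∈ E.Hom V := (mem_autGroup_iff hVT').1 hνA
    have hle : normalizerIn T V ≤ extender T V (V.subtype.comp ν.toMonoidHom) := by
      intro g hg
      obtain ⟨hgT, hgN⟩ := mem_normalizerIn.1 hg
      have hcg := conjAut_mem hgT hgN
      obtain ⟨h, hh, hhv⟩ := mem_autInducedBy_iff.1 (hνP _ hcg)
      refine mem_extender_iff.2 ⟨hgT, hgN, h, hh, fun y hy => ?_⟩
      have h1 := hhv (ν y)
      have h2 : (ν * conjAut V g hgN * ν⁻¹) (ν y) = ν (conjAut V g hgN y) := by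
        simp [MulAut.mul_apply]
      rw [h2] at h1
      exact h1
    have hlt := lt_normalizerIn hTp hVT
    exact card_lt_of_lt (S := T) (extender_le_normalizerIn.trans (normalizerIn_le V)) (lt_of_lt_of_le hlt hle)
  have e : a = x⁻¹ * ν := by rw [hν]; group
  rw [e]
  exact Subgroup.mul_mem _ (hYG _ (Subgroup.inv_mem _ hx)) hνG

end VLevel

/-! ### Transport along `Aut_F(T)` -/

section Transport

variable [Finite S] {E : FusionSystem T} {D : FusionSystem (centralizerIn S T)} {G₂ : FusionSystem (centralizerIn S D.focalSubgroup)}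

theorem transport_back (hTS : T ≤ S) (hD : F.IsCentralizerSystem T D) (hG₂ : F.IsCentralizerSystem D.focalSubgroup G₂)
    {c : MulAut (WW S T)} (hc : c ∈ F.autGroup (WW S T))
    (hcT : ∀ v : T, ((c ⟨v, le_sup_left (a := T) v.2⟩ : WW S T) : Ω) ∈ T)
    {U V' : Subgroup Ω} (hUT : U ≤ T) (hVT : V' ≤ T) {a₀ : MulAut U} {a : MulAut V'}
    (hUV : ∀ u : U, ((c ⟨u, le_sup_left (a := T) (hUT u.2)⟩ : WW S T) : Ω) ∈ V')
    (hval : ∀ u : U, ((a ⟨_, hUV u⟩ : V') : Ω) = ((c ⟨(a₀ u : U), le_sup_left (a := T) (hUT (a₀ u).2)⟩ : WW S T) : Ω))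
    (ha : a ∈ G₂.autGroup V') : a₀ ∈ G₂.autGroup U := by
  haveI : Finite (centralizerIn S T) := finite_of_le (centralizerIn_le T)
  have hm := (mem_autG₂ hTS hVT).1 ha
  rw [hG₂ V'] at hm
  obtain ⟨-, -, -, ψ₁, hψ₁, h1, h2⟩ := hm
  have hXR : D.focalSubgroup ≤ centralizerIn S T := focal_le (F := D)
  have hYW : V' ⊔ D.focalSubgroup ≤ WW S T := sup_le (hVT.trans le_sup_left) (hXR.trans le_sup_right)
  have h1' : ∀ (y : Ω) (hy : y ∈ V'), ψ₁ ⟨y, Subgroup.mem_sup_left hy⟩ = (a ⟨y, hy⟩ : V') := fun y hy => h1 ⟨y, hy⟩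
  have h2' : ∀ (y : Ω) (hy : y ∈ D.focalSubgroup), ψ₁ ⟨y, Subgroup.mem_sup_right hy⟩ = y := fun y hy => h2 ⟨y, hy⟩
  have hv : ∀ y, ψ₁ y ∈ WW S T := by
    refine map_sup_mem (fun y hy => ?_) (fun y hy => ?_)
    · rw [h1' y hy]
      exact le_sup_left (a := T) (hVT (a ⟨y, hy⟩).2)
    · rw [h2' y hy]
      exact le_sup_right (a := T) (hXR hy)
  obtain ⟨ψ₂, hψ₂, h3⟩ := conj_exists (b := c⁻¹) (WW_le hTS) (Subgroup.inv_mem _ hc) hYW hψ₁ hv
  have hinv : ∀ z : WW S T, (((c⁻¹ : MulAut (WW S T)) (c z) : WW S T) : Ω) = z := fun z => by simp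
  have hle : U ⊔ D.focalSubgroup ≤ img c⁻¹ (V' ⊔ D.focalSubgroup) := by
    refine sup_le (fun u hu => ?_) (fun x hx => ?_)
    · have := img_mem (Y := V' ⊔ D.focalSubgroup) c⁻¹ (hYW (Subgroup.mem_sup_left (hUV ⟨u, hu⟩))) (Subgroup.mem_sup_left (hUV ⟨u, hu⟩))
      rwa [show (⟨_, hYW (Subgroup.mem_sup_left (hUV ⟨u, hu⟩))⟩ : WW S T) = c ⟨u, le_sup_left (a := T) (hUT hu)⟩ from rfl, hinv] at this
    · obtain ⟨hxW, hcx⟩ := foc_stable hTS hD hc hcT hx
      have := img_mem (Y := V' ⊔ D.focalSubgroup) c⁻¹ (hYW (Subgroup.mem_sup_right hcx)) (Subgroup.mem_sup_right hcx)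
      rwa [show (⟨_, hYW (Subgroup.mem_sup_right hcx)⟩ : WW S T) = c ⟨x, hxW⟩ from rfl, hinv] at this
  have hψ₃ := res_mem F hψ₂ hle
  refine (mem_autG₂ hTS hUT).2 (mem_G₂ hTS hG₂ hUT hψ₃ (fun u => ?_) (fun x => ?_))
  · have h4 := h3 ⟨_, Subgroup.mem_sup_left (hUV u)⟩
    have h5 : ψ₁ ⟨_, Subgroup.mem_sup_left (hUV u)⟩ = ((c ⟨(a₀ u : U), le_sup_left (a := T) (hUT (a₀ u).2)⟩ : WW S T) : Ω) :=
      (h1' _ (hUV u)).trans (hval u)
    have h6 : (⟨ψ₁ ⟨_, Subgroup.mem_sup_left (hUV u)⟩, hv _⟩ : WW S T) = c ⟨(a₀ u : U), le_sup_left (a := T) (hUT (a₀ u).2)⟩ :=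
      Subtype.ext h5
    rw [h6] at h4
    refine Eq.trans ?_ (h4.trans (hinv _))
    show ψ₂ _ = ψ₂ _
    congr 1
    apply Subtype.ext
    exact (hinv ⟨u, le_sup_left (a := T) (hUT u.2)⟩).symm
  · obtain ⟨hxW, hcx⟩ := foc_stable hTS hD hc hcT x.2
    have h4 := h3 ⟨_, Subgroup.mem_sup_right hcx⟩
    have h5 : ψ₁ ⟨_, Subgroup.mem_sup_right hcx⟩ = ((c ⟨x, hxW⟩ : WW S T) : Ω) := h2' _ hcx
    have h6 : (⟨ψ₁ ⟨_, Subgroup.mem_sup_right hcx⟩, hv _⟩ : WW S T) = c ⟨x, hxW⟩ := Subtype.ext h5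
    rw [h6] at h4
    refine Eq.trans ?_ (h4.trans (hinv _))
    show ψ₂ _ = ψ₂ _
    congr 1
    apply Subtype.ext
    exact (hinv ⟨x, hxW⟩).symm

end Transport

/-! ### Assembly -/

section Assembly

variable [Finite S] {E : FusionSystem T} {D : FusionSystem (centralizerIn S T)} {G₂ : FusionSystem (centralizerIn S D.focalSubgroup)}

theorem closedClass (hTS : T ≤ S) : ClosedClass E (fun P φ => φ ∈ G₂.Hom P) where
  conj := fun P g hP hg => G₂.conj_mem (hP.trans (le_cent_foc hTS)) (le_cent_foc hTS hg)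
  comp := fun P Q φ ψ _ _ h1 h2 h => G₂.comp_mem h1 h2 h
  inv := by
    intro P φ ψ hφ h1 hψ hv
    obtain ⟨θ, hθ, hθv⟩ := G₂.inv_mem h1
    refine hom_congr G₂ hθ ?_
    rintro ⟨_, x, rfl⟩
    exact (hv x).trans (hθv x).symm

/-- **`E` is contained in the centralizer system of the focal subgroup of `C_F(T)`.** -/
theorem E_le (hS : IsPGroup p S) (hF : F.IsSaturated p) (hE : E.IsNormalIn F p) (hD : F.IsCentralizerSystem T D)
    (hG₂ : F.IsCentralizerSystem D.focalSubgroup G₂) : ∀ (P : Subgroup Ω) (φ : P →* Ω), φ ∈ E.Hom P → φ ∈ G₂.Hom P := by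
  have hE' := hE
  obtain ⟨⟨hEs, -, hsub, hsc, hinv, hfrat⟩, hN1⟩ := hE'
  have hTS := hsc.1
  haveI : Finite T := finite_of_le hTS
  have hTp : IsPGroup p T := hS.to_le hTS
  refine ClosedClass.fn_induction (closedClass hTS) hTp hEs fun P hP IH α hα => ?_
  have hPT : P ≤ T := hP.1
  have hPS := hPT.trans hTS
  refine (mem_autG₂ hTS hPT).1 ?_
  by_cases hPe : P = T
  · subst hPe
    exact T_level hS hF hE hD hG₂ hα
  have hPlt : P < T := lt_of_le_of_ne hPT hPe
  have hcardP : Nat.card P < Nat.card T := card_lt_of_lt (S := T) le_rfl hPlt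
  obtain ⟨V₀, hconj, hV₀⟩ := exists_fullyNormalized_conj (F := F) hPS
  obtain ⟨e₁, he₁⟩ := isConj_iff.1 hconj
  obtain ⟨γ, hγ, φ₀, hφ₀, hfr⟩ := hfrat P hPT _ he₁
  have hU₀T : φ₀.range ≤ T := by
    rintro _ ⟨x, rfl⟩
    exact hom_val E hφ₀ x
  have hcardU : Nat.card φ₀.range = Nat.card P := (Nat.card_congr (isoRange hφ₀).toEquiv).symm
  -- the image of `U₀` under `γ`
  have hV'eq : (φ₀.range.subgroupOf T).map (T.subtype.comp γ.toMonoidHom) = V₀ := by
    ext y
    constructor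
    · rintro ⟨u, ⟨x, hx⟩, rfl⟩
      have h1 := hfr x (hU₀T ⟨x, rfl⟩)
      have h2 : (⟨φ₀ x, hU₀T ⟨x, rfl⟩⟩ : T) = u := Subtype.ext hx
      rw [h2] at h1
      show ((γ u : T) : Ω) ∈ V₀
      rw [← h1]
      exact (e₁ x).2
    · intro hy
      have h1 := hfr (e₁.symm ⟨y, hy⟩) (hU₀T ⟨_, rfl⟩)
      simp only [MonoidHom.coe_comp, Subgroup.coe_subtype, Function.comp_apply, MulEquiv.toMonoidHom_eq_coe,
        MonoidHom.coe_coe, MulEquiv.apply_symm_apply] at h1
      exact ⟨_, Subgroup.mem_subgroupOf.2 ⟨_, rfl⟩, h1.symm⟩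
  set V' : Subgroup Ω := (φ₀.range.subgroupOf T).map (T.subtype.comp γ.toMonoidHom) with hV'
  have hV'fn : F.IsFullyNormalized V' := by
    rw [hV'eq]
    exact hV₀
  have hV'card : Nat.card V' = Nat.card P := by
    rw [hV'eq]
    exact (conj_card hconj).symm
  have hV'T : V' ≤ T := by
    rintro _ ⟨u, -, rfl⟩
    exact (γ u).2
  have hV'lt : V' < T := by
    refine lt_of_le_of_ne hV'T fun h => ?_
    rw [← hV'card, h] at hcardP
    exact lt_irrefl _ hcardP
  have IH' : ∀ Q, Q ≤ T → Nat.card V' < Nat.card Q → ∀ φ ∈ E.Hom Q, φ ∈ G₂.Hom Q := by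
    intro Q hQ hlt φ hφ
    rw [hV'card] at hlt
    exact IH Q hQ hlt φ hφ
  -- the isomorphism from `U₀` to `P` in `G₂`
  have hTp' := hTp
  obtain ⟨e', he', ψ, hψ, -, hψe⟩ := IsSat.extend_to_normalizer hTp hEs hP (IsIso.symm (isoRange_isIso hφ₀))
  have hU₀lt : φ₀.range < T := by
    refine lt_of_le_of_ne hU₀T fun h => ?_
    rw [← hcardU, h] at hcardP
    exact lt_irrefl _ hcardP
  have hNlt := lt_normalizerIn hTp hU₀lt
  have hψG : ψ ∈ G₂.Hom (normalizerIn T φ₀.range) :=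
    IH _ (normalizerIn_le _) (by rw [← hcardU]; exact card_lt_of_lt (S := T) (normalizerIn_le _) hNlt) ψ hψ
  have he'G : IsIso G₂ e' := hom_of_res G₂ hψG hNlt.le fun x hx => (hψe x hx _).symm
  -- the automorphism of `U₀`
  set a₀ : MulAut φ₀.range := autTransport e'.symm α with ha₀
  have ha₀E : a₀ ∈ E.autGroup φ₀.range := (autGroupEquiv (IsIso.symm he') ⟨α, hα⟩).2
  have ha₀m : φ₀.range.subtype.comp a₀.toMonoidHom ∈ E.Hom φ₀.range := (mem_autGroup_iff hU₀T).1 ha₀E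
  obtain ⟨χ, hχ, hχv⟩ := hinv φ₀.range hU₀T _ ha₀m γ hγ
  -- the automorphism of `V'`
  have hχV : ∀ y, χ y ∈ V' := by
    rintro ⟨_, u, hu, rfl⟩
    have hu' : (u : Ω) ∈ φ₀.range := Subgroup.mem_subgroupOf.1 hu
    have h1 := hχv ⟨u, hu'⟩ (hU₀T (a₀ ⟨u, hu'⟩).2) ⟨_, Subgroup.mem_subgroupOf.2 hu', rfl⟩
    show χ ⟨_, ⟨u, hu, rfl⟩⟩ ∈ V'
    rw [show χ ⟨_, ⟨u, hu, rfl⟩⟩ = _ from h1]
    exact ⟨_, Subgroup.mem_subgroupOf.2 (a₀ ⟨u, hu'⟩).2, rfl⟩
  haveI : Finite V' := finite_of_le hV'T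
  have hinjχ : Function.Injective (χ.codRestrict V' hχV) := fun a c hac => hom_inj E hχ (congrArg Subtype.val hac)
  let a' : MulAut V' := MulEquiv.ofBijective (χ.codRestrict V' hχV) ⟨hinjχ, Finite.surjective_of_injective hinjχ⟩
  have ha'E : a' ∈ E.autGroup V' := (mem_autGroup_iff hV'T).2 (hom_congr E hχ fun x => rfl)
  have ha'G : a' ∈ G₂.autGroup V' := V_level hS hF hE hD hG₂ hV'fn hV'lt IH' ha'E
  -- transport back along `γ`
  have hTc := T_fullyCentralized hS hF hsc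
  have hγF : γ ∈ F.autGroup T := hγ
  obtain ⟨c, hc, hcv⟩ := exists_lift hS hF hTc hγF
  have hcT : ∀ v : T, ((c ⟨v, le_sup_left (a := T) v.2⟩ : WW S T) : Ω) ∈ T := fun v => by
    rw [hcv]
    exact (γ v).2
  have hUV : ∀ u : φ₀.range, ((c ⟨u, le_sup_left (a := T) (hU₀T u.2)⟩ : WW S T) : Ω) ∈ V' := fun u => by
    rw [show ((c ⟨u, le_sup_left (a := T) (hU₀T u.2)⟩ : WW S T) : Ω) = (γ ⟨u, hU₀T u.2⟩ : T) from hcv ⟨u, hU₀T u.2⟩]
    exact ⟨⟨u, hU₀T u.2⟩, Subgroup.mem_subgroupOf.2 u.2, rfl⟩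
  have hval : ∀ u : φ₀.range, ((a' ⟨_, hUV u⟩ : V') : Ω) = ((c ⟨(a₀ u : φ₀.range), le_sup_left (a := T) (hU₀T (a₀ u).2)⟩ : WW S T) : Ω) := by
    intro u
    have h0 := hcv ⟨u, hU₀T u.2⟩
    have h1 := hχv u (hU₀T (a₀ u).2) ⟨_, Subgroup.mem_subgroupOf.2 u.2, rfl⟩
    have h2 := hcv ⟨(a₀ u : φ₀.range), hU₀T (a₀ u).2⟩
    refine Eq.trans ?_ (h1.trans h2.symm)
    show χ _ = χ _
    congr 1
    exact Subtype.ext h0
  have ha₀G : a₀ ∈ G₂.autGroup φ₀.range := transport_back hTS hD hG₂ hc hcT hU₀T hV'T hUV hval ha'G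
  -- back to `P`
  have hfin := (autGroupEquiv he'G ⟨a₀, ha₀G⟩).2
  have hαeq : ((autGroupEquiv he'G ⟨a₀, ha₀G⟩ : G₂.autGroup P) : MulAut P) = α := by
    rw [autGroupEquiv_coe]
    show autTransport e' (autTransport e'.symm α) = α
    ext x
    simp
  rwa [hαeq] at hfin

end Assembly

end Cfsg.Agent.Lib.FocCent
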